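import Cfsg.Agent.Screen.CosetEnum.Core

/-!
# Rows of the certificate
-/

set_option autoImplicit false
set_option maxRecDepth 20000

namespace Cfsg.Agent.Screen.CosetEnum.Fi23Ord.F23X

open Cfsg.Agent.Screen.CosetEnum

def rowTree0 : Tr :=
  (.leaf 0x5b3000000059c00000005ad000000059b00000005aa000000059a000000059900000005980000000597000000059600000)

/-- Packed table. -/
def rowTree : Tr := rowTree0

end Cfsg.Agent.Screen.CosetEnum.Fi23Ord.F23X
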